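import Groth.Agent.ProjMorph.Sections
import Groth.Agent.ProjMorph.Base
import Groth.Agent.ProjProper.Basic
import Groth.Agent.ProjTwist.Invertible
import Mathlib.RingTheory.Jacobson.Ring
import Mathlib.FieldTheory.IsAlgClosed.Basic
import Mathlib.RingTheory.Nakayama
import Mathlib.AlgebraicGeometry.ZariskisMainTheorem

/-!
Standard charts of `P^n_k`, closed points, and the ring-theoretic criterion for surjectivity.
-/

set_option autoImplicit false
set_option linter.style.haveILetI false
universe u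

open CategoryTheory AlgebraicGeometry TopologicalSpace HomogeneousLocalization

noncomputable section

namespace Groth.Agent.SepTang48

open Groth.Agent.QCoh Groth.Agent.ProjMorph Groth.Agent.Props.ProjFrame

theorem residue_trivial {k B : Type u} [Field k] [IsAlgClosed k] [CommRing B] (ψ : k →+* B)
    (hψ : ψ.FiniteType) (M : Ideal B) [M.IsMaximal] (b : B) : ∃ c : k, b - ψ c ∈ M := by
  algebraize [ψ]
  letI := Ideal.Quotient.field M
  haveI : Algebra.FiniteType k (B ⧸ M) :=
    Algebra.FiniteType.of_surjective (Ideal.Quotient.mkₐ k M) Ideal.Quotient.mk_surjective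
  haveI : Module.Finite k (B ⧸ M) := finite_of_finite_type_of_isJacobsonRing k (B ⧸ M)
  obtain ⟨c, hc⟩ := (IsAlgClosed.algebraMap_bijective_of_isIntegral (k := k) (K := B ⧸ M)).2
    (Ideal.Quotient.mk M b)
  exact ⟨c, Ideal.Quotient.eq.mp hc.symm⟩

/-- A finite map of `k`-algebras which separates points and tangents is surjective. -/
theorem surjective_of_separates {k A B : Type u} [Field k] [IsAlgClosed k] [CommRing A] [CommRing B]
    (κ : k →+* A) (φ : A →+* B) (hfin : φ.Finite) (hB : (φ.comp κ).FiniteType)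
    (huniq : ∀ M M' : Ideal B, M.IsMaximal → M'.IsMaximal → M.comap φ = M'.comap φ → M = M')
    (htan : ∀ M : Ideal B, M.IsMaximal → M ≤ (M.comap φ).map φ ⊔ M ^ 2) :
    Function.Surjective φ := by
  haveI : IsNoetherianRing B := by
    letI := (φ.comp κ).toAlgebra
    haveI : Algebra.FiniteType k B := hB
    exact Algebra.FiniteType.isNoetherianRing k B
  letI := φ.toAlgebra
  haveI : Module.Finite A B := hfin
  have key : ∀ m : Ideal A, m.IsMaximal → ∀ b : B, ∃ a : A, b - φ a ∈ m.map φ := by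
    intro m hm b
    by_cases hJ : m.map φ = ⊤
    · exact ⟨0, hJ ▸ Submodule.mem_top⟩
    obtain ⟨M, hM, hle⟩ := Ideal.exists_le_maximal _ hJ
    have hcom : ∀ N : Ideal B, N.IsMaximal → m.map φ ≤ N → N.comap φ = m := fun N hN h =>
      (hm.eq_of_le (Ideal.IsPrime.ne_top (Ideal.comap_isPrime φ N)) (Ideal.map_le_iff_le_comap.mp h)).symm
    have hu : ∀ N : Ideal B, N.IsMaximal → m.map φ ≤ N → N = M := fun N hN h =>
      huniq N M hN hM ((hcom N hN h).trans (hcom M hM hle).symm)
    set J := m.map φ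
    have hMJ : M ≤ J := by
      have hbot : M.map (Ideal.Quotient.mk J) = ⊥ := by
        refine Submodule.eq_bot_of_le_smul_of_le_jacobson_bot (M.map (Ideal.Quotient.mk J)) _
          (IsNoetherian.noetherian _) ?_ ?_
        · rw [smul_eq_mul, ← Ideal.map_mul]
          refine (Ideal.map_mono ((htan M hM).trans_eq (by rw [hcom M hM hle]))).trans ?_
          rw [Ideal.map_sup, Ideal.map_quotient_self, bot_sup_eq, pow_two]
        · refine le_sInf fun N ⟨_, hN⟩ => ?_
          haveI := hN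
          have hN' : (N.comap (Ideal.Quotient.mk J)).IsMaximal :=
            Ideal.comap_isMaximal_of_surjective _ Ideal.Quotient.mk_surjective
          have := hu _ hN' (fun x hx => by
            rw [Ideal.mem_comap, Ideal.Quotient.eq_zero_iff_mem.mpr hx]; exact N.zero_mem)
          rw [← this]
          exact Ideal.map_comap_le
      intro x hx
      refine Ideal.Quotient.eq_zero_iff_mem.mp ?_
      rw [← Ideal.mem_bot, ← hbot]
      exact Ideal.mem_map_of_mem _ hx
    obtain ⟨c, hc⟩ := residue_trivial (φ.comp κ) hB M b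
    exact ⟨κ c, hMJ hc⟩
  let N : Submodule A B := LinearMap.range (Algebra.linearMap A B)
  suffices hN : N = ⊤ from fun b => by
    obtain ⟨a, ha⟩ : b ∈ N := hN ▸ Submodule.mem_top
    exact ⟨a, ha⟩
  by_contra hN
  have hne : (⊤ : Submodule A (B ⧸ N)).annihilator ≠ ⊤ := fun e => hN (by
    rw [Submodule.annihilator_eq_top_iff] at e
    refine eq_top_iff.2 fun b _ => (Submodule.Quotient.mk_eq_zero N).1 ?_
    exact (Submodule.mem_bot A).1 (e ▸ Submodule.mem_top))
  obtain ⟨m, hm, hle⟩ := Ideal.exists_le_maximal _ hne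
  have hkey : ∀ z : B ⧸ N, z ∈ m • (⊤ : Submodule A (B ⧸ N)) := by
    intro z
    obtain ⟨b, rfl⟩ := Submodule.Quotient.mk_surjective N z
    obtain ⟨a, ha⟩ := key m hm b
    have h1 : b - φ a ∈ m • (⊤ : Submodule A B) := by
      rw [Ideal.smul_top_eq_map, Submodule.restrictScalars_mem]
      exact ha
    have h2 := Submodule.mem_map_of_mem (f := N.mkQ) h1
    rw [Submodule.map_smul'', Submodule.map_top, Submodule.range_mkQ] at h2
    rwa [map_sub, Submodule.mkQ_apply, Submodule.mkQ_apply,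
      (Submodule.Quotient.mk_eq_zero N).2 (show φ a ∈ N from ⟨a, rfl⟩), sub_zero] at h2
  obtain ⟨r, hr, hr'⟩ := Submodule.exists_sub_one_mem_and_smul_eq_zero_of_fg_of_le_smul m
    (⊤ : Submodule A (B ⧸ N)) Module.Finite.fg_top (fun b _ => hkey b)
  refine hm.ne_top ((Ideal.eq_top_iff_one _).2 ?_)
  have : r ∈ m := hle (Submodule.mem_annihilator.2 hr')
  simpa using m.sub_mem this hr

/-- Injective on closed points, proper: finite. -/
theorem isFinite_of_injective_closedPoints {X Y : Scheme.{u}} (f : X ⟶ Y) [IsProper f]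
    [JacobsonSpace X]
    (h : ∀ P Q : X, IsClosed ({P} : Set X) → IsClosed ({Q} : Set X) → f P = f Q → P = Q) :
    IsFinite f := by
  have htop : f.quasiFiniteLocus = ⊤ := by
    by_contra hne
    have hcl : IsClosed ((f.quasiFiniteLocus : Set X)ᶜ) := f.quasiFiniteLocus.isOpen.isClosed_compl
    obtain ⟨x, hx, hxc⟩ := nonempty_inter_closedPoints (Z := (f.quasiFiniteLocus : Set X)ᶜ)
      (Set.nonempty_compl.mpr fun e => hne (SetLike.coe_injective e)) hcl.isLocallyClosed
    have hy : IsClosed ({f x} : Set Y) := by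
      rw [← Set.image_singleton]
      exact f.isClosedMap _ hxc
    have hZ : IsClosed (f ⁻¹' {f x}) := hy.preimage f.continuous
    have hfib : f ⁻¹' {f x} = {x} := by
      refine subset_antisymm ?_ (Set.singleton_subset_iff.mpr rfl)
      rw [← closure_inter_closedPoints hZ]
      refine hxc.closure_subset_iff.mpr ?_
      rintro z ⟨hz, hzc⟩
      exact h z x hzc hxc hz
    refine hx (Scheme.Hom.quasiFiniteAt_iff_isOpen_singleton_asFiber.mpr ?_)
    haveI : Subsingleton (f ⁻¹' {f x} : Set X) := ⟨fun a b => Subtype.ext (by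
      have ha : (a : X) ∈ ({x} : Set X) := hfib ▸ a.2
      have hb : (b : X) ∈ ({x} : Set X) := hfib ▸ b.2
      exact ha.trans hb.symm)⟩
    haveI : Subsingleton (f.fiber (f x)) := (f.fiberHomeo (f x)).injective.subsingleton
    exact isOpen_discrete _
  haveI := f.quasiFiniteLocus_eq_top_iff.mp htop
  exact IsFinite.of_isProper_of_locallyQuasiFinite f

section Pn

variable (k : Type u) [Field k] (n : ℕ)

local notation "𝒜" => CohB1.polyGrading n k

theorem X_mem (i : Fin (n + 1)) : (MvPolynomial.X i : MvPolynomial (Fin (n + 1)) k) ∈ 𝒜 1 :=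
  MvPolynomial.isHomogeneous_X k i

/-- The chart `D₊(T_i)`. -/
abbrev D (i : Fin (n + 1)) : (CohB1.ProjSpace n k).Opens := Proj.basicOpen 𝒜 (MvPolynomial.X i)

theorem isAffineOpen_D (i : Fin (n + 1)) : IsAffineOpen (D k n i) :=
  Proj.isAffineOpen_basicOpen 𝒜 _ (X_mem k n i) one_pos

theorem iSup_D : ⨆ i, D k n i = ⊤ :=
  iSup_basicOpen_gen (MvPolynomial.X : Fin (n + 1) → _) (X_mem k n) MvPolynomial.adjoin_range_X

/-- Constants on a chart. -/
def const (i : Fin (n + 1)) : k →+* Γ(CohB1.ProjSpace n k, D k n i) :=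
  (rres (le_top : D k n i ≤ ⊤)).hom.comp (ProjUP.toGlobal (CohB1.ProjSpace.toSpec n k))

/-- The coordinate `T_j / T_i`. -/
def ρ (i j : Fin (n + 1)) : Γ(CohB1.ProjSpace n k, D k n i) := ratio (X_mem k n i) (X_mem k n j)

/-- A linear form divided by `T_i`. -/
def lin (i : Fin (n + 1)) (c : Fin (n + 1) → k) : Γ(CohB1.ProjSpace n k, D k n i) :=
  ∑ j, const k n i (c j) * ρ k n i j

theorem const_eq (i : Fin (n + 1)) :
    const k n i = ((Proj.awayToSection 𝒜 (MvPolynomial.X i)).hom.comp
      (fromZeroRingHom 𝒜 _)).comp (algebraMap k (𝒜 0)) := by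
  have key : CommRingCat.ofHom
      ((rres (le_top : Proj.basicOpen 𝒜 (MvPolynomial.X i) ≤ ⊤)).hom.comp
        (ProjUP.toGlobal (X := Proj 𝒜) (str 𝒜))) = CommRingCat.ofHom
      (((Proj.awayToSection 𝒜 (MvPolynomial.X i)).hom.comp (fromZeroRingHom 𝒜 _)).comp
        (algebraMap k (𝒜 0))) := by
    refine toSpecΓ_SpecMap_injective (X := Proj 𝒜) (W := Proj.basicOpen 𝒜 (MvPolynomial.X i)) ?_
    rw [← awayHom_str (X_mem k n i) one_pos]
    have h1 := ι_comp_eq_awayHom (X := Proj 𝒜) (W := Proj.basicOpen 𝒜 (MvPolynomial.X i))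
      (hg := X_mem k n i) (hk := one_pos) (𝟙 (Proj 𝒜)) (g := MvPolynomial.X i) le_rfl
    have h2 : ((𝟙 (Proj 𝒜) : Proj 𝒜 ⟶ Proj 𝒜).appLE (Proj.basicOpen 𝒜 (MvPolynomial.X i))
        (Proj.basicOpen 𝒜 (MvPolynomial.X i)) le_rfl) = 𝟙 _ := by
      unfold Scheme.Hom.appLE
      rw [Scheme.Hom.id_app]
      exact (Category.id_comp _).trans ((Proj 𝒜).presheaf.map_id _)
    rw [h2] at h1
    simp only [Category.comp_id, CommRingCat.hom_id, RingHom.id_comp] at h1
    rw [← h1]
    refine Eq.trans ?_ (congrArg ((Proj.basicOpen 𝒜 (MvPolynomial.X i)).ι ≫ ·) (toSpecΓ_toGlobal (str 𝒜)))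
    rw [CommRingCat.ofHom_comp, Spec.map_comp]
    exact Scheme.Opens.toSpecΓ_SpecMap_presheaf_map_top_assoc _ _
  exact congrArg CommRingCat.Hom.hom key

theorem exists_eval₂ (i : Fin (n + 1)) (a : Γ(CohB1.ProjSpace n k, D k n i)) :
    ∃ Q : MvPolynomial (Fin (n + 1)) k, MvPolynomial.eval₂Hom (const k n i) (ρ k n i) Q = a := by
  obtain ⟨z, rfl⟩ :=
    (ConcreteCategory.bijective_of_isIso (Proj.basicOpenIsoAway 𝒜 _ (X_mem k n i) one_pos).hom).2 a
  obtain ⟨Q, rfl⟩ := exists_eval_eq_away (MvPolynomial.X : Fin (n + 1) → MvPolynomial (Fin (n + 1)) k)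
    (X_mem k n) MvPolynomial.adjoin_range_X i z
  refine ⟨Q, ?_⟩
  rw [Proj.basicOpenIsoAway_hom, MvPolynomial.map_eval₂Hom, const_eq]
  refine congrFun (congrArg _ ?_) Q
  rw [RingHom.comp_assoc]
  refine congrArg (fun g => MvPolynomial.eval₂Hom _ g) (funext fun j => ?_)
  exact (awayToSection_mk_one (X_mem k n i) (X_mem k n j) _).symm

theorem ρ_self (i : Fin (n + 1)) : ρ k n i i = 1 := ratio_self _

theorem basicOpen_ρ (i j : Fin (n + 1)) :
    (CohB1.ProjSpace n k).basicOpen (ρ k n i j) = D k n i ⊓ D k n j :=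
  basicOpen_coeff _ _ _ le_rfl

theorem lin_single (i l : Fin (n + 1)) : lin k n i (Pi.single l 1) = ρ k n i l := by
  rw [lin, Finset.sum_eq_single l (fun j _ hj => by rw [Pi.single_eq_of_ne hj, map_zero, zero_mul])
    (fun h => absurd (Finset.mem_univ l) h), Pi.single_eq_same, map_one, one_mul]

theorem lin_affine (i l : Fin (n + 1)) (a : k) :
    lin k n i (Pi.single l 1 - a • Pi.single i 1) = ρ k n i l - const k n i a := by
  simp only [lin, Pi.sub_apply, Pi.smul_apply, smul_eq_mul, map_sub, map_mul, sub_mul,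
    Finset.sum_sub_distrib, mul_assoc, ← Finset.mul_sum]
  have h := lin_single k n i l
  have h' := lin_single k n i i
  simp only [lin] at h h'
  rw [h, h', ρ_self, mul_one]

theorem mem_basicOpen_iff {i : Fin (n + 1)} {y : CohB1.ProjSpace n k} (hy : y ∈ D k n i)
    (a : Γ(CohB1.ProjSpace n k, D k n i)) :
    y ∈ (CohB1.ProjSpace n k).basicOpen a ↔
      a ∉ ((isAffineOpen_D k n i).primeIdealOf ⟨y, hy⟩).asIdeal := by
  letI := (CohB1.ProjSpace n k).presheaf.algebra_section_stalk (U := D k n i) ⟨y, hy⟩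
  haveI := (isAffineOpen_D k n i).isLocalization_stalk ⟨y, hy⟩
  rw [Scheme.mem_basicOpen _ _ _ hy]
  exact IsLocalization.AtPrime.isUnit_to_map_iff ((CohB1.ProjSpace n k).presheaf.stalk y) _ a

theorem finiteType_const (i : Fin (n + 1)) : (const k n i).FiniteType := by
  letI := (const k n i).toAlgebra
  exact Algebra.FiniteType.of_surjective
    (MvPolynomial.aeval (R := k) (ρ k n i)) fun a => exists_eval₂ k n i a

/-- The maximal ideal of a closed point is spanned by linear forms vanishing at it. -/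
theorem le_span_lin [IsAlgClosed k] (i : Fin (n + 1))
    (m : Ideal Γ(CohB1.ProjSpace n k, D k n i)) [m.IsMaximal] :
    m ≤ Ideal.span {a | ∃ c, lin k n i c = a ∧ a ∈ m} := by
  set S := Ideal.span {a | ∃ c, lin k n i c = a ∧ a ∈ m}
  have hS : S ≤ m := Ideal.span_le.mpr fun a ⟨_, _, ha⟩ => ha
  choose c hc using fun j => residue_trivial (const k n i) (finiteType_const k n i) m (ρ k n i j)
  intro a ha
  obtain ⟨Q, rfl⟩ := exists_eval₂ k n i a
  have hmk : Ideal.Quotient.mk S (MvPolynomial.eval₂Hom (const k n i) (ρ k n i) Q) =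
      Ideal.Quotient.mk S (const k n i (MvPolynomial.eval c Q)) := by
    have : (Ideal.Quotient.mk S).comp (MvPolynomial.eval₂Hom (const k n i) (ρ k n i)) =
        ((Ideal.Quotient.mk S).comp (const k n i)).comp (MvPolynomial.eval c) :=
      MvPolynomial.ringHom_ext (fun r => by simp) fun j => by
        simp only [RingHom.comp_apply, MvPolynomial.eval₂Hom_X', MvPolynomial.eval_X]
        refine Ideal.Quotient.eq.mpr (Ideal.subset_span ⟨_, lin_affine k n i j (c j), hc j⟩)
    exact RingHom.congr_fun this Q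
  rw [Ideal.Quotient.eq] at hmk
  have h0 : MvPolynomial.eval c Q = 0 := by
    by_contra h
    refine (‹m.IsMaximal›).ne_top (Ideal.eq_top_of_isUnit_mem m ?_ ((isUnit_iff_ne_zero.mpr h).map (const k n i)))
    have := sub_mem ha (hS hmk)
    rwa [sub_sub_cancel] at this
  rwa [h0, map_zero, sub_zero] at hmk

theorem isMaximal_of_isClosed {i : Fin (n + 1)} {y : CohB1.ProjSpace n k} (hy : y ∈ D k n i)
    (hc : IsClosed ({y} : Set (CohB1.ProjSpace n k))) :
    ((isAffineOpen_D k n i).primeIdealOf ⟨y, hy⟩).asIdeal.IsMaximal :=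
  (isAffineOpen_D k n i).primeIdealOf_isMaximal_of_isClosed _ hc

/-- Linear forms separate closed points of projective space. -/
theorem exists_lin_separating [IsAlgClosed k] {y z : CohB1.ProjSpace n k}
    (hyc : IsClosed ({y} : Set (CohB1.ProjSpace n k))) (hzc : IsClosed ({z} : Set (CohB1.ProjSpace n k)))
    (hne : y ≠ z) {i : Fin (n + 1)} (hy : y ∈ D k n i) (hz : z ∈ D k n i) :
    ∃ c, y ∉ (CohB1.ProjSpace n k).basicOpen (lin k n i c) ∧
      z ∈ (CohB1.ProjSpace n k).basicOpen (lin k n i c) := by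
  by_contra! H
  haveI := isMaximal_of_isClosed k n hy hyc
  haveI := isMaximal_of_isClosed k n hz hzc
  refine hne ?_
  have hle : ((isAffineOpen_D k n i).primeIdealOf ⟨y, hy⟩).asIdeal ≤
      ((isAffineOpen_D k n i).primeIdealOf ⟨z, hz⟩).asIdeal := by
    refine (le_span_lin k n i _).trans (Ideal.span_le.mpr ?_)
    rintro a ⟨c, rfl, ha⟩
    have h1 : y ∉ (CohB1.ProjSpace n k).basicOpen (lin k n i c) := fun h =>
      (mem_basicOpen_iff k n hy _).mp h ha
    by_contra h2
    exact H c h1 ((mem_basicOpen_iff k n hz _).mpr h2)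
  have heq : (isAffineOpen_D k n i).primeIdealOf ⟨y, hy⟩ = (isAffineOpen_D k n i).primeIdealOf ⟨z, hz⟩ :=
    PrimeSpectrum.ext ((isMaximal_of_isClosed k n hy hyc).eq_of_le
      (isMaximal_of_isClosed k n hz hzc).ne_top hle)
  have := congrArg (isAffineOpen_D k n i).fromSpec heq
  rwa [IsAffineOpen.fromSpec_primeIdealOf, IsAffineOpen.fromSpec_primeIdealOf] at this

end Pn

end Groth.Agent.SepTang48
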