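import Groth.Agent.SepTang48.Chart

/-!
Closed immersion into projective space iff linear forms separate points and tangent vectors.
-/

set_option autoImplicit false
set_option linter.style.haveILetI false
universe u

open CategoryTheory AlgebraicGeometry TopologicalSpace

noncomputable section

namespace Groth.Agent.SepTang48

open Groth.Agent.QCoh Groth.Agent.ProjMorph Groth.Agent.Props.GenLocus Groth.Agent.Props.GenPull
  Groth.Agent.PullStalk.Sky

variable {k : Type u} [Field k] {X : Scheme.{u}} (pX : X ⟶ Spec (CommRingCat.of k)) {n : ℕ}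
  (f : X ⟶ CohB1.ProjSpace n k)

local notation "𝒜" => CohB1.polyGrading n k

/-- The pullback of `O(1)`. -/
abbrev Lf : X.Modules := (Scheme.Modules.pullback f).obj (Twist.twistProjSpace n k 1)

/-- The germ at `P` of the section `Σ c_j f^*T_j`. -/
abbrev gS (c : Fin (n + 1) → k) (P : X) : ↑((Lf f).presheaf.stalk P) :=
  ((Lf f).presheaf.germ ⊤ P trivial).hom
    (∑ j, ProjUP.toGlobal pX (c j) • ProjUP.pullSec f (Twist.twistProjSpace n k 1) (ProjUP.coord n k j))

/-- `m_P^e L_P`. -/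
abbrev mL (P : X) (e : ℕ) : Submodule ↑(X.presheaf.stalk P) ↑((Lf f).presheaf.stalk P) :=
  IsLocalRing.maximalIdeal ↑(X.presheaf.stalk P) ^ e • ⊤

variable {pX f}

theorem app_const (hf : f ≫ CohB1.ProjSpace.toSpec n k = pX) (i : Fin (n + 1)) (a : k) :
    f.app (D k n i) (const k n i a) = rres (le_top : f ⁻¹ᵁ D k n i ≤ ⊤) (ProjUP.toGlobal pX a) := by
  subst hf
  exact app_rres f le_top _

theorem res_gS (hf : f ≫ CohB1.ProjSpace.toSpec n k = pX) (i : Fin (n + 1)) (c : Fin (n + 1) → k)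
    (P : X) (hP : P ∈ f ⁻¹ᵁ D k n i) :
    gS pX f c P = X.presheaf.germ (f ⁻¹ᵁ D k n i) P hP (f.app (D k n i) (lin k n i c)) •
      germM (Lf f) (f ⁻¹ᵁ D k n i) P hP (pb f (frame (X_mem k n i))) := by
  have h : res (Lf f) (le_top : f ⁻¹ᵁ D k n i ≤ ⊤)
      (∑ j, ProjUP.toGlobal pX (c j) • ProjUP.pullSec f (Twist.twistProjSpace n k 1) (ProjUP.coord n k j)) =
        f.app (D k n i) (lin k n i c) • pb f (frame (X_mem k n i)) := by
    rw [map_sum, lin, map_sum, Finset.sum_smul]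
    refine Finset.sum_congr rfl fun j _ => ?_
    rw [res_smul, map_mul, app_const hf, mul_smul]
    exact congrArg (_ • ·) (res_pullSec f (X_mem k n i) (X_mem k n j))
  exact ((Lf f).presheaf.germ_res_apply _ P hP _).symm.trans
    ((congrArg (germM (Lf f) (f ⁻¹ᵁ D k n i) P hP) h).trans (germM_smul _ _ _ _ _ _))

variable (f) in
/-- The frame at a point, as a bijection `O_P → L_P`. -/
def stalkFrame (i : Fin (n + 1)) (P : X) (hP : P ∈ f ⁻¹ᵁ D k n i) :
    ↑(X.presheaf.stalk P) →ₗ[↑(X.presheaf.stalk P)] ↑((Lf f).presheaf.stalk P) :=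
  LinearMap.toSpanSingleton _ _ (germM (Lf f) (f ⁻¹ᵁ D k n i) P hP (pb f (frame (X_mem k n i))))

theorem bijective_stalkFrame (i : Fin (n + 1)) (P : X) (hP : P ∈ f ⁻¹ᵁ D k n i) :
    Function.Bijective (stalkFrame f i P hP) := by
  have hg : IsGen (Lf f) (f ⁻¹ᵁ D k n i) (pb f (frame (X_mem k n i))) :=
    isGen_pb f (isGen_frame (X_mem k n i))
  have hb := ((isGen_iff_isFrame _).mp hg).stalkComb_bijective P hP
  have he : ⇑(stalkFrame f i P hP) =
      ⇑(LFFrame.stalkComb (Lf f) (fun _ : Fin 1 => pb f (frame (X_mem k n i))) P hP) ∘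
        (Equiv.funUnique (Fin 1) _).symm := by
    funext a
    simp only [LFFrame.stalkComb, Function.comp_apply, Fintype.linearCombination_apply,
      Fin.sum_univ_one]
    rfl
  rw [he]
  exact hb.comp (Equiv.bijective _)

theorem map_stalkFrame (i : Fin (n + 1)) (P : X) (hP : P ∈ f ⁻¹ᵁ D k n i)
    (I : Ideal ↑(X.presheaf.stalk P)) :
    Submodule.map (stalkFrame f i P hP) I = I • ⊤ := by
  conv_lhs => rw [show I = I • (⊤ : Ideal ↑(X.presheaf.stalk P)) by rw [smul_eq_mul, Ideal.mul_top]]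
  rw [Submodule.map_smul'', Submodule.map_top,
    LinearMap.range_eq_top.mpr (bijective_stalkFrame i P hP).2]

theorem mem_map_stalkFrame {i : Fin (n + 1)} {P : X} {hP : P ∈ f ⁻¹ᵁ D k n i}
    {I : Ideal ↑(X.presheaf.stalk P)} {a : ↑(X.presheaf.stalk P)} :
    stalkFrame f i P hP a ∈ Submodule.map (stalkFrame f i P hP) I ↔ a ∈ I :=
  ⟨fun ⟨_, hb, e⟩ => (bijective_stalkFrame i P hP).1 e ▸ hb, fun h => ⟨a, h, rfl⟩⟩

theorem gS_eq (hf : f ≫ CohB1.ProjSpace.toSpec n k = pX) (i : Fin (n + 1)) (c : Fin (n + 1) → k)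
    (P : X) (hP : P ∈ f ⁻¹ᵁ D k n i) :
    gS pX f c P = stalkFrame f i P hP
      (X.presheaf.germ (f ⁻¹ᵁ D k n i) P hP (f.app (D k n i) (lin k n i c))) :=
  res_gS hf i c P hP

/-- The key translation: vanishing at `P` of a section of `V`. -/
theorem gS_mem_iff (hf : f ≫ CohB1.ProjSpace.toSpec n k = pX) (i : Fin (n + 1)) (c : Fin (n + 1) → k)
    (P : X) (hP : P ∈ f ⁻¹ᵁ D k n i) :
    gS pX f c P ∈ IsLocalRing.maximalIdeal ↑(X.presheaf.stalk P) • (⊤ : Submodule ↑(X.presheaf.stalk P) ↑((Lf f).presheaf.stalk P)) ↔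
      f P ∉ (CohB1.ProjSpace n k).basicOpen (lin k n i c) := by
  rw [gS_eq hf i c P hP, ← map_stalkFrame i P hP, mem_map_stalkFrame, IsLocalRing.mem_maximalIdeal,
    mem_nonunits_iff, ← X.mem_basicOpen _ P hP, ← Scheme.preimage_basicOpen]
  rfl

variable (pX f) in
/-- `V` separates points, in the strong (ordered) form. -/
def SepStrong : Prop :=
  ∀ P Q : ↥X, IsClosed ({P} : Set ↥X) → IsClosed ({Q} : Set ↥X) → P ≠ Q →
    ∃ c : Fin (n + 1) → k,
      gS pX f c P ∈ IsLocalRing.maximalIdeal ↑(X.presheaf.stalk P) • (⊤ : Submodule ↑(X.presheaf.stalk P) ↑((Lf f).presheaf.stalk P)) ∧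
      gS pX f c Q ∉ IsLocalRing.maximalIdeal ↑(X.presheaf.stalk Q) • (⊤ : Submodule ↑(X.presheaf.stalk Q) ↑((Lf f).presheaf.stalk Q))

variable (pX f) in
/-- `V` separates points, in the symmetric form. -/
def SepWeak : Prop :=
  ∀ P Q : ↥X, IsClosed ({P} : Set ↥X) → IsClosed ({Q} : Set ↥X) → P ≠ Q →
    ∃ c : Fin (n + 1) → k,
      (gS pX f c P ∈ IsLocalRing.maximalIdeal ↑(X.presheaf.stalk P) • (⊤ : Submodule ↑(X.presheaf.stalk P) ↑((Lf f).presheaf.stalk P)) ∧
        gS pX f c Q ∉ IsLocalRing.maximalIdeal ↑(X.presheaf.stalk Q) • (⊤ : Submodule ↑(X.presheaf.stalk Q) ↑((Lf f).presheaf.stalk Q))) ∨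
      (gS pX f c Q ∈ IsLocalRing.maximalIdeal ↑(X.presheaf.stalk Q) • (⊤ : Submodule ↑(X.presheaf.stalk Q) ↑((Lf f).presheaf.stalk Q)) ∧
        gS pX f c P ∉ IsLocalRing.maximalIdeal ↑(X.presheaf.stalk P) • (⊤ : Submodule ↑(X.presheaf.stalk P) ↑((Lf f).presheaf.stalk P)))

variable (pX f) in
/-- `V` separates tangent vectors. -/
def Tang : Prop :=
  ∀ P : ↥X, IsClosed ({P} : Set ↥X) →
    IsLocalRing.maximalIdeal ↑(X.presheaf.stalk P) • (⊤ : Submodule ↑(X.presheaf.stalk P) ↑((Lf f).presheaf.stalk P)) ≤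
      Submodule.span ↑(X.presheaf.stalk P)
        {v | ∃ c : Fin (n + 1) → k, v = gS pX f c P ∧
          v ∈ IsLocalRing.maximalIdeal ↑(X.presheaf.stalk P) • (⊤ : Submodule ↑(X.presheaf.stalk P) ↑((Lf f).presheaf.stalk P))} ⊔ mL f P 2

theorem exists_mem_D (y : CohB1.ProjSpace n k) : ∃ i, y ∈ D k n i :=
  Opens.mem_iSup.mp ((iSup_D k n).ge (Set.mem_univ y))

section Forward

variable [IsAlgClosed k] [IsClosedImmersion f]

theorem sepStrong (hf : f ≫ CohB1.ProjSpace.toSpec n k = pX) : SepStrong pX f := by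
  intro P Q hP hQ hne
  have hcl : ∀ R : X, IsClosed ({R} : Set X) → IsClosed ({f R} : Set (CohB1.ProjSpace n k)) := fun R hR => by
    rw [← Set.image_singleton]
    exact f.isClosedEmbedding.isClosedMap _ hR
  have hfne : f P ≠ f Q := fun h => hne (f.isClosedEmbedding.injective h)
  obtain ⟨i, hi⟩ := exists_mem_D (f Q)
  by_cases hPi : f P ∈ D k n i
  · obtain ⟨c, h1, h2⟩ := exists_lin_separating k n (hcl P hP) (hcl Q hQ) hfne hPi hi
    exact ⟨c, (gS_mem_iff hf i c P hPi).mpr h1, fun h => (gS_mem_iff hf i c Q hi).mp h h2⟩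
  · obtain ⟨l, hl⟩ := exists_mem_D (f P)
    refine ⟨Pi.single i 1, (gS_mem_iff hf l _ P hl).mpr ?_, fun h => (gS_mem_iff hf i _ Q hi).mp h ?_⟩
    · rw [lin_single, basicOpen_ρ]
      exact fun h => hPi h.2
    · rw [lin_single, basicOpen_ρ]
      exact ⟨hi, hi⟩

theorem tang (hf : f ≫ CohB1.ProjSpace.toSpec n k = pX) : Tang pX f := by
  intro P hP
  obtain ⟨i, hi⟩ := exists_mem_D (f P)
  set U := f ⁻¹ᵁ D k n i with hUdef
  have hU : IsAffineOpen U := (isAffineOpen_D k n i).preimage f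
  letI : Algebra Γ(X, U) ↑(X.presheaf.stalk P) := X.presheaf.algebra_section_stalk (U := U) ⟨P, hi⟩
  haveI := hU.isLocalization_stalk ⟨P, hi⟩
  have hm : Ideal.map (algebraMap Γ(X, U) ↑(X.presheaf.stalk P)) (hU.primeIdealOf ⟨P, hi⟩).asIdeal =
      IsLocalRing.maximalIdeal ↑(X.presheaf.stalk P) :=
    IsLocalization.AtPrime.map_eq_maximalIdeal (hU.primeIdealOf ⟨P, hi⟩).asIdeal (X.presheaf.stalk P)
  have hy : IsClosed ({f P} : Set (CohB1.ProjSpace n k)) := by
    rw [← Set.image_singleton]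
    exact f.isClosedEmbedding.isClosedMap _ hP
  haveI := isMaximal_of_isClosed k n (i := i) hi hy
  set m := ((isAffineOpen_D k n i).primeIdealOf ⟨f P, hi⟩).asIdeal with hmdef
  have hcomap : (hU.primeIdealOf ⟨P, hi⟩).asIdeal.comap (f.app (D k n i)).hom = m := by
    rw [Scheme.Hom.app_eq_appLE]
    exact congrArg PrimeSpectrum.asIdeal (IsAffineOpen.comap_primeIdealOf_appLE _ (isAffineOpen_D k n i) _ hU le_rfl hi)
  refine (map_stalkFrame i P hi _).ge.trans ?_
  rw [Submodule.map_le_iff_le_comap]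
  conv_lhs => rw [← hm]
  rw [Ideal.map_le_iff_le_comap]
  intro b hb
  obtain ⟨a, rfl⟩ := f.app_surjective (D k n i) (isAffineOpen_D k n i) b
  have ha : a ∈ m := hcomap ▸ hb
  have hspan := le_span_lin k n i m ha
  rw [Ideal.mem_comap, Submodule.mem_comap]
  refine Submodule.mem_sup_left ?_
  clear ha hb
  induction hspan using Submodule.span_induction with
  | mem x hx =>
    obtain ⟨c, rfl, hc⟩ := hx
    refine Submodule.subset_span ⟨c, (gS_eq hf i c P hi).symm, ?_⟩
    refine (gS_eq hf i c P hi) ▸ (gS_mem_iff hf i c P hi).mpr fun h => ?_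
    exact (mem_basicOpen_iff k n hi _).mp h hc
  | zero => rw [map_zero, map_zero, map_zero]; exact Submodule.zero_mem _
  | add x y _ _ hx hy => rw [map_add, map_add, map_add]; exact Submodule.add_mem _ hx hy
  | smul r x _ hx =>
    rw [smul_eq_mul, map_mul, map_mul, ← smul_eq_mul, map_smul]
    exact Submodule.smul_mem _ _ hx

end Forward

section Backward

variable [IsAlgClosed k] [IsProper pX]

theorem isClosedImmersion_of_separates (hf : f ≫ CohB1.ProjSpace.toSpec n k = pX)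
    (hsep : SepWeak pX f) (htang : Tang pX f) : IsClosedImmersion f := by
  haveI := ProjProper.Basic.isProper_toSpec n k
  haveI : IsProper f := by
    haveI : IsProper (f ≫ CohB1.ProjSpace.toSpec n k) := hf ▸ inferInstance
    exact IsProper.of_comp f (CohB1.ProjSpace.toSpec n k)
  haveI : JacobsonSpace X := LocallyOfFiniteType.jacobsonSpace pX
  have hinj : ∀ P Q : X, IsClosed ({P} : Set X) → IsClosed ({Q} : Set X) → f P = f Q → P = Q := by
    intro P Q hP hQ heq
    by_contra hne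
    obtain ⟨c, hc⟩ := hsep P Q hP hQ hne
    obtain ⟨i, hi⟩ := exists_mem_D (f P)
    have hiff := (gS_mem_iff hf i c P hi).trans
      ((iff_of_eq (by rw [heq])).trans (gS_mem_iff hf i c Q (show f Q ∈ D k n i from heq ▸ hi)).symm)
    rcases hc with ⟨h1, h2⟩ | ⟨h1, h2⟩
    · exact h2 (hiff.mp h1)
    · exact h2 (hiff.mpr h1)
  haveI := isFinite_of_injective_closedPoints f hinj
  let V : Fin (n + 1) → (CohB1.ProjSpace n k).affineOpens := fun i => ⟨D k n i, isAffineOpen_D k n i⟩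
  rw [IsZariskiLocalAtTarget.iff_of_iSup_eq_top (P := @IsClosedImmersion) (fun i => (V i).1) (iSup_D k n)]
  intro i
  have hUaff : IsAffineOpen (f ⁻¹ᵁ D k n i) := (isAffineOpen_D k n i).preimage f
  suffices key : Function.Surjective (f.app (D k n i)) by
    haveI : IsAffine ↑(f ⁻¹ᵁ D k n i) := hUaff
    haveI : IsAffine ↑(V i).1 := isAffineOpen_D k n i
    refine IsClosedImmersion.of_surjective_of_isAffine _ ?_
    have : ∀ W : (CohB1.ProjSpace n k).Opens, W = D k n i → Function.Surjective (f.app W) := by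
      rintro W rfl
      exact key
    rw [morphismRestrict_appTop]
    exact (ConcreteCategory.bijective_of_isIso (X.presheaf.map _)).2.comp
      (this _ (Scheme.Opens.ι_image_top _))
  have hclosed : ∀ M : Ideal Γ(X, f ⁻¹ᵁ D k n i), M.IsMaximal →
      ∃ (P : X) (hP : P ∈ f ⁻¹ᵁ D k n i), IsClosed ({P} : Set X) ∧
        (hUaff.primeIdealOf ⟨P, hP⟩).asIdeal = M := by
    intro M hM
    let q : Spec Γ(X, f ⁻¹ᵁ D k n i) := ⟨M, hM.isPrime⟩
    have hP : hUaff.fromSpec q ∈ f ⁻¹ᵁ D k n i := by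
      have := Set.mem_range_self (f := hUaff.fromSpec) q
      rwa [hUaff.range_fromSpec] at this
    refine ⟨_, hP, isClosed_singleton_of_isLocallyClosed_singleton ?_, ?_⟩
    · rw [← Set.image_singleton]
      exact ((PrimeSpectrum.isClosed_singleton_iff_isMaximal q).mpr hM).isLocallyClosed.image
        hUaff.fromSpec.isOpenEmbedding.isInducing
        hUaff.fromSpec.isOpenEmbedding.isOpen_range.isLocallyClosed
    · have : hUaff.primeIdealOf ⟨_, hP⟩ = q :=
        hUaff.fromSpec.isOpenEmbedding.injective (hUaff.fromSpec_primeIdealOf ⟨_, hP⟩)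
      rw [this]
  refine surjective_of_separates (const k n i) (f.app (D k n i)).hom
    (IsFinite.finite_app f _ (isAffineOpen_D k n i)) ?_ ?_ ?_
  · have h1 : (f.app (D k n i)).hom.comp (const k n i) =
        ((Scheme.ΓSpecIso (CommRingCat.of k)).inv ≫ pX.appLE ⊤ (f ⁻¹ᵁ D k n i) le_top).hom := by
      refine RingHom.ext fun a => ?_
      rw [RingHom.comp_apply]
      exact app_const hf i a
    rw [h1, CommRingCat.hom_comp]
    exact (pX.finiteType_appLE (isAffineOpen_top _) hUaff le_top).comp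
      (RingHom.FiniteType.of_surjective _
        (ConcreteCategory.bijective_of_isIso (Scheme.ΓSpecIso (CommRingCat.of k)).inv).2)
  · intro M M' hM hM' heq
    obtain ⟨P, hP, hPc, rfl⟩ := hclosed M hM
    obtain ⟨Q, hQ, hQc, rfl⟩ := hclosed M' hM'
    rw [Scheme.Hom.app_eq_appLE] at heq
    have h1 := congrArg PrimeSpectrum.asIdeal
      (IsAffineOpen.comap_primeIdealOf_appLE _ (isAffineOpen_D k n i) _ hUaff le_rfl hP)
    have h2 := congrArg PrimeSpectrum.asIdeal
      (IsAffineOpen.comap_primeIdealOf_appLE _ (isAffineOpen_D k n i) _ hUaff le_rfl hQ)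
    have h3 : (isAffineOpen_D k n i).primeIdealOf ⟨f P, hP⟩ = (isAffineOpen_D k n i).primeIdealOf ⟨f Q, hQ⟩ :=
      PrimeSpectrum.ext (h1.symm.trans (heq.trans h2))
    have h4 := congrArg (isAffineOpen_D k n i).fromSpec h3
    rw [IsAffineOpen.fromSpec_primeIdealOf, IsAffineOpen.fromSpec_primeIdealOf] at h4
    obtain rfl := hinj P Q hPc hQc h4
    rfl
  · intro M hM
    obtain ⟨P, hi, hPc, rfl⟩ := hclosed M hM
    set M := (hUaff.primeIdealOf ⟨P, hi⟩).asIdeal with hMdef
    letI : Algebra Γ(X, f ⁻¹ᵁ D k n i) ↑(X.presheaf.stalk P) :=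
      X.presheaf.algebra_section_stalk (U := f ⁻¹ᵁ D k n i) ⟨P, hi⟩
    haveI : IsLocalization.AtPrime ↑(X.presheaf.stalk P) M := hUaff.isLocalization_stalk ⟨P, hi⟩
    have hm : Ideal.map (algebraMap Γ(X, f ⁻¹ᵁ D k n i) ↑(X.presheaf.stalk P)) M =
        IsLocalRing.maximalIdeal ↑(X.presheaf.stalk P) :=
      IsLocalization.AtPrime.map_eq_maximalIdeal M (X.presheaf.stalk P)
    set J := (M.comap (f.app (D k n i)).hom).map (f.app (D k n i)).hom
    intro b hb
    have hgerm : algebraMap Γ(X, f ⁻¹ᵁ D k n i) ↑(X.presheaf.stalk P) b ∈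
        Ideal.map (algebraMap Γ(X, f ⁻¹ᵁ D k n i) ↑(X.presheaf.stalk P)) (J ⊔ M ^ 2) := by
      have h1 := htang P hPc
      rw [← map_stalkFrame i P hi] at h1
      have h2 := h1 (Submodule.mem_map_of_mem (f := stalkFrame f i P hi)
        (show algebraMap Γ(X, f ⁻¹ᵁ D k n i) ↑(X.presheaf.stalk P) b ∈ IsLocalRing.maximalIdeal _ from
          hm ▸ Ideal.mem_map_of_mem _ hb))
      rw [← mem_map_stalkFrame (hP := hi)]
      refine (sup_le ?_ ?_ : _ ≤ Submodule.map (stalkFrame f i P hi) (Ideal.map _ (J ⊔ M ^ 2))) h2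
      · refine Submodule.span_le.mpr ?_
        rintro v ⟨c, rfl, hc⟩
        rw [SetLike.mem_coe, gS_eq hf i c P hi]
        refine Submodule.mem_map_of_mem (Ideal.mem_map_of_mem _ (Ideal.mem_sup_left
          (Ideal.mem_map_of_mem _ ?_)))
        rw [Ideal.mem_comap, hMdef, Scheme.Hom.app_eq_appLE, ← Ideal.mem_comap]
        change _ ∈ (PrimeSpectrum.comap _ (hUaff.primeIdealOf ⟨P, hi⟩)).asIdeal
        rw [IsAffineOpen.comap_primeIdealOf_appLE _ (isAffineOpen_D k n i) _ hUaff le_rfl hi]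
        by_contra h
        exact (gS_mem_iff hf i c P hi).mp (by rw [← map_stalkFrame i P hi]; exact hc) ((mem_basicOpen_iff k n hi _).mpr h)
      · show IsLocalRing.maximalIdeal ↑(X.presheaf.stalk P) ^ 2 • ⊤ ≤ _
        rw [← map_stalkFrame i P hi, ← hm, ← Ideal.map_pow]
        exact Submodule.map_mono (Ideal.map_mono le_sup_right)
    obtain ⟨⟨⟨x, hx⟩, ⟨s, hs⟩⟩, hxs⟩ := (IsLocalization.mem_map_algebraMap_iff M.primeCompl _).mp hgerm
    rw [← map_mul] at hxs
    obtain ⟨⟨t, ht⟩, htx⟩ := (IsLocalization.eq_iff_exists M.primeCompl _).mp hxs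
    have hsb : t * s * b ∈ J ⊔ M ^ 2 := by
      have : t * (b * s) ∈ J ⊔ M ^ 2 := by
        simp only at htx
        rw [htx]
        exact Ideal.mul_mem_left _ _ hx
      convert this using 1
      ring
    obtain ⟨u, μ, hμ, hu⟩ := (hM).exists_inv (x := t * s) (M.primeCompl.mul_mem ht hs)
    have : b = u * (t * s * b) + μ * b := by
      conv_lhs => rw [← one_mul b, ← hu]
      ring
    rw [this]
    refine add_mem (Ideal.mul_mem_left _ _ hsb) (Ideal.mem_sup_right ?_)
    rw [pow_two]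
    exact Ideal.mul_mem_mul hμ hb

end Backward

end Groth.Agent.SepTang48
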